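import Cfsg.Agent.LocalFlavell.FittingTimes.FixedCard
import Cfsg.Agent.Lib.Coprime.Commutator
import Cfsg.Agent.Lib.Coprime.FrobeniusPGroup
import Cfsg.Agent.GroupStructure3.FrattiniAut

/-!
A maximal solvable subgroup `⟨P, P ^ a⟩` makes the parts of its Fitting subgroup centralise the parts
of coprime order of every nilpotent group it normalises.
-/

set_option autoImplicit false
set_option linter.style.haveILetI false

namespace Cfsg.Agent.LocalFlavell.FittingTimes

open scoped commutatorElement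

universe u

variable {G : Type u} [Group G] [Finite G]

theorem isSolvable_sup {A N : Subgroup G} (hA : Group.IsSolvable A) (hN : Group.IsSolvable N)
    (hAN : A ≤ Subgroup.normalizer (N : Set G)) : Group.IsSolvable ↥(N ⊔ A) := by
  haveI := hA
  haveI := hN
  haveI hn : (N.subgroupOf (N ⊔ A)).Normal :=
    (Subgroup.normal_subgroupOf_iff_le_normalizer le_sup_left).mpr (sup_le Subgroup.le_normalizer hAN)
  let f : A →* ↥(N ⊔ A) ⧸ N.subgroupOf (N ⊔ A) :=
    (QuotientGroup.mk' _).comp (Subgroup.inclusion le_sup_right)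
  have hf : Function.Surjective f := by
    intro z
    obtain ⟨⟨x, hx⟩, rfl⟩ := QuotientGroup.mk'_surjective _ z
    obtain ⟨u, hu, a, ha, rfl⟩ := (Coprime.mem_sup_of_le_normalizer hAN).mp hx
    refine ⟨⟨a, ha⟩, ?_⟩
    simp only [f, MonoidHom.comp_apply, QuotientGroup.mk'_apply]
    rw [QuotientGroup.eq, Subgroup.mem_subgroupOf]
    simpa [mul_assoc] using Subgroup.le_normalizer_iff.mp hAN a⁻¹ (inv_mem ha) u hu
  haveI : Group.IsSolvable (↥(N ⊔ A) ⧸ N.subgroupOf (N ⊔ A)) := Group.isSolvable_of_surjective hf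
  haveI : Group.IsSolvable (N.subgroupOf (N ⊔ A)) := Group.isSolvable_of_isSolvable_injective
    (f := (Subgroup.subgroupOfEquivOfLe (le_sup_left : N ≤ N ⊔ A)).toMonoidHom)
    (MulEquiv.injective _)
  exact Group.isSolvable_of_ker_le_range (N.subgroupOf (N ⊔ A)).subtype (QuotientGroup.mk' (N.subgroupOf (N ⊔ A)))
    ((QuotientGroup.ker_mk' _).le.trans (Subgroup.range_subtype _).ge)

theorem mul_shuffle {W : Type*} [CommGroup W] (a b c d e : W) :
    a * b * c * e⁻¹ = a * d * e⁻¹ * (b * c * d⁻¹) := by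
  calc a * b * c * e⁻¹ = a * b * c * e⁻¹ * (d * d⁻¹) := by rw [mul_inv_cancel, mul_one]
    _ = _ := by ac_rfl

set_option maxHeartbeats 1000000 in
theorem centralize {p r q : ℕ} [Fact p.Prime] [Fact r.Prime] [Fact q.Prime] (hp : 3 < p) (hrq : r ≠ q)
    {P A : Subgroup G} (hP : Nat.card P = p) (hsol : Group.IsSolvable A) {a : G} (ha : a ∈ A)
    (hA : A = P ⊔ P.map (MulAut.conj a).toMonoidHom)
    (hmax : ∀ B : Subgroup G, A ≤ B → Group.IsSolvable B →
      (∃ b ∈ B, B = P ⊔ P.map (MulAut.conj b).toMonoidHom) → B = A)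
    {X Y : Subgroup G} (hXA : X ≤ A) (hX : IsPGroup r X) (hAX : A ≤ Subgroup.normalizer (X : Set G))
    (hY : IsPGroup q Y) (hAY : A ≤ Subgroup.normalizer (Y : Set G))
    (hXq : ∀ D : Subgroup G, D ≤ A → IsPGroup q D → A ≤ Subgroup.normalizer (D : Set G) →
      X ≤ Subgroup.centralizer (D : Set G)) :
    X ≤ Subgroup.centralizer (Y : Set G) := by
  classical
  by_contra hne
  obtain ⟨V0, ⟨hV0Y, hAV0, hXV0⟩, hmin⟩ := exists_minimal_of_wellFoundedLT
    (fun U : Subgroup G => U ≤ Y ∧ A ≤ Subgroup.normalizer (U : Set G) ∧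
      ¬ X ≤ Subgroup.centralizer (U : Set G)) ⟨Y, le_rfl, hAY, hne⟩
  have hV0 : IsPGroup q V0 := hY.to_le hV0Y
  have hcop : (Nat.card X).Coprime (Nat.card V0) := IsPGroup.coprime_card_of_ne r q hrq X V0 hX hV0
  have hXN : X ≤ Subgroup.normalizer (V0 : Set G) := hXA.trans hAV0
  haveI := hV0.isNilpotent
  haveI hsolV0 : Group.IsSolvable V0 := inferInstance
  have hmin' : ∀ U : Subgroup G, U ≤ V0 → A ≤ Subgroup.normalizer (U : Set G) → U ≠ V0 →
      X ≤ Subgroup.centralizer (U : Set G) := by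
    intro U hU hAU hUne
    by_contra h
    exact hUne (le_antisymm hU (hmin ⟨hU.trans hV0Y, hAU, h⟩ hU))
  have hcomm : ⁅V0, X⁆ = V0 := by
    by_contra h
    refine hXV0 (Coprime.le_centralizer_of_commutator_commutator_eq_bot hXN hcop (Or.inr hsolV0)
      (Coprime.commutator_eq_bot_iff_le_centralizer'.mpr (hmin' _
        (Coprime.commutator_le_of_le_normalizer hXN)
        (fun g hg => Coprime.FrobeniusPGroup.mem_normalizer_commutator (hAV0 hg) (hAX hg)) h)))
  have hVA : ¬ V0 ≤ A := fun h => hXV0 (hXq V0 h hV0 hAV0)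
  -- the Frattini quotient
  have hcommW : ∀ a b : V0 ⧸ frattini V0, a * b = b * a := by
    intro a b
    obtain ⟨a, rfl⟩ := QuotientGroup.mk'_surjective _ a
    obtain ⟨b, rfl⟩ := QuotientGroup.mk'_surjective _ b
    rw [← commutatorElement_eq_one_iff_mul_comm, ← map_commutatorElement, QuotientGroup.mk'_apply,
      QuotientGroup.eq_one_iff]
    exact Coprime.commutator_le_frattini V0
      (Subgroup.commutator_mem_commutator (Subgroup.mem_top a) (Subgroup.mem_top b))
  letI : CommGroup (V0 ⧸ frattini V0) :=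
    { (inferInstance : Group (V0 ⧸ frattini V0)) with mul_comm := hcommW }
  let π : V0 →* V0 ⧸ frattini V0 := QuotientGroup.mk' (frattini V0)
  have hπs : Function.Surjective π := QuotientGroup.mk'_surjective _
  have hWq : ∀ w : V0 ⧸ frattini V0, w ^ q = 1 := by
    intro w
    obtain ⟨v, rfl⟩ := QuotientGroup.mk'_surjective _ w
    rw [← map_pow, QuotientGroup.mk'_apply, QuotientGroup.eq_one_iff]
    exact GroupStructure3.FrattiniAut.pow_mem_frattini hV0 v
  let act' : A →* MulAut V0 := V0.normalizerMonoidHom.comp (Subgroup.inclusion hAV0)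
  have hact' : ∀ (g : A) (v : V0), ((act' g v : V0) : G) = g * v * (g : G)⁻¹ := fun g v => rfl
  have hchar : ∀ e : V0 ≃* V0, (frattini V0).map e.toMonoidHom = frattini V0 := fun e =>
    Subgroup.characteristic_iff_map_eq.mp inferInstance e
  let act : A →* MulAut (V0 ⧸ frattini V0) :=
    { toFun := fun g => QuotientGroup.congr _ _ (act' g) (hchar _)
      map_one' := MulEquiv.ext fun w => by
        obtain ⟨v, rfl⟩ := QuotientGroup.mk'_surjective _ w
        show π (act' 1 v) = π v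
        rw [map_one]; rfl
      map_mul' := fun g h => MulEquiv.ext fun w => by
        obtain ⟨v, rfl⟩ := QuotientGroup.mk'_surjective _ w
        show π (act' (g * h) v) = π (act' g (act' h v))
        rw [map_mul]; rfl }
  have hact : ∀ (g : A) (v : V0), act g (π v) = π (act' g v) := fun g v => rfl
  let Xs : Subgroup A := X.subgroupOf A
  haveI := Fintype.ofFinite Xs
  have hXscard : (Nat.card (V0 ⧸ frattini V0)).Coprime (Nat.card Xs) := by
    rw [Nat.card_congr (Subgroup.subgroupOfEquivOfLe hXA).toEquiv]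
    exact Nat.Coprime.coprime_dvd_left (Subgroup.card_quotient_dvd_card _) hcop.symm
  -- fixed points of `X`
  have hCX : ∀ w, (∀ s : Xs, act s w = w) → w = 1 := by
    let θ : V0 ⧸ frattini V0 →* V0 ⧸ frattini V0 :=
      { toFun := fun w => ∏ s : Xs, act s w
        map_one' := Finset.prod_eq_one fun s _ => map_one _
        map_mul' := fun w w' => by simp only [map_mul, Finset.prod_mul_distrib] }
    have hinv : ∀ (t : Xs) w, θ (act t w) = θ w := fun t w =>
      Fintype.prod_equiv (Equiv.mulRight t) _ _ fun s => by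
        show act s (act t w) = act (s * t : Xs) w
        rw [Subgroup.coe_mul, map_mul]; rfl
    have hθ : (θ.comp π).ker = ⊤ := by
      have hle : ⁅V0, X⁆ ≤ ((θ.comp π).ker).map V0.subtype := by
        rw [Subgroup.commutator_le]
        intro v hv s hs
        let t : Xs := ⟨⟨s, hXA hs⟩, hs⟩
        refine ⟨⟨v, hv⟩ * (act' t ⟨v, hv⟩)⁻¹, ?_, ?_⟩
        · rw [SetLike.mem_coe, MonoidHom.mem_ker, MonoidHom.comp_apply, map_mul, map_inv, ← hact,
            map_mul, map_inv, hinv, mul_inv_cancel]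
        · show v * (s * v * s⁻¹)⁻¹ = ⁅v, s⁆
          rw [commutatorElement_def]; group
      rw [hcomm] at hle
      refine eq_top_iff.mpr fun v _ => ?_
      obtain ⟨v', hv', h⟩ := hle v.2
      rwa [← Subtype.ext h]
    intro w hw
    obtain ⟨v, rfl⟩ := hπs w
    have h1 : θ (π v) = 1 := MonoidHom.mem_ker.mp (hθ.ge (Subgroup.mem_top v))
    have h2 : θ (π v) = π v ^ Nat.card Xs := by
      show ∏ s : Xs, act s (π v) = _
      simp only [hw, Finset.prod_const, Finset.card_univ, Nat.card_eq_fintype_card]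
    exact (powCoprime hXscard).injective ((h2.symm.trans h1).trans (one_pow _).symm)
  haveI hWnt : Nontrivial (V0 ⧸ frattini V0) := by
    by_contra h
    haveI := not_nontrivial_iff_subsingleton.mp h
    have htop : (⊥ : Subgroup V0) ⊔ frattini V0 = ⊤ := by
      rw [bot_sup_eq]
      exact eq_top_iff.mpr fun v _ => (QuotientGroup.eq_one_iff v).mp (Subsingleton.elim _ _)
    refine hXV0 fun s _ v hv => ?_
    have h2 : (⟨v, hv⟩ : V0) ∈ (⊥ : Subgroup V0) := (frattini_nongenerating htop).ge (Subgroup.mem_top _)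
    have h3 : v = 1 := congrArg Subtype.val (Subgroup.mem_bot.mp h2)
    rw [h3, one_mul, mul_one]
  have hirr : ∀ U : Subgroup (V0 ⧸ frattini V0), (∀ g : A, ∀ u ∈ U, act g u ∈ U) → U = ⊥ ∨ U = ⊤ := by
    intro U hU
    let U0 : Subgroup G := (U.comap π).map V0.subtype
    have hmem : ∀ v : V0, (v : G) ∈ U0 ↔ π v ∈ U := fun v =>
      Subgroup.mem_map_iff_mem V0.subtype_injective
    have hAU0 : A ≤ Subgroup.normalizer (U0 : Set G) := by
      rw [Subgroup.le_normalizer_iff]
      intro g hg k hk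
      obtain ⟨v, hv, rfl⟩ := hk
      refine ⟨act' ⟨g, hg⟩ v, ?_, rfl⟩
      exact hU ⟨g, hg⟩ _ hv
    by_cases hU0 : U0 = V0
    · refine Or.inr (eq_top_iff.mpr fun w _ => ?_)
      obtain ⟨v, rfl⟩ := hπs w
      exact (hmem v).mp (hU0.ge v.2)
    · refine Or.inl ((Subgroup.eq_bot_iff_forall _).mpr fun w hw => hCX w fun s => ?_)
      obtain ⟨v, rfl⟩ := hπs w
      have hc : (v : G) * ((s : A) : G) = ((s : A) : G) * v := Subgroup.mem_centralizer_iff.mp
        (hmin' U0 (Subgroup.map_subtype_le _) hAU0 hU0 s.2) v ((hmem v).mpr hw)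
      rw [hact]
      refine congrArg π (Subtype.ext ?_)
      rw [hact', ← hc, mul_inv_cancel_right]
  -- the generators
  obtain ⟨x, hxP, hx1⟩ : ∃ x ∈ P, x ≠ 1 := by
    by_contra h
    push Not at h
    rw [(Subgroup.eq_bot_iff_forall P).mpr h, Subgroup.card_bot] at hP
    omega
  have hxp : x ^ p = 1 := by
    rw [← hP]
    exact congrArg Subtype.val (pow_card_eq_one' (x := (⟨x, hxP⟩ : P)))
  have hPA : P ≤ A := hA ▸ le_sup_left
  have hPz : P = Subgroup.zpowers x := by
    refine (Subgroup.eq_of_le_of_card_ge (Subgroup.zpowers_le.mpr hxP) ?_).symm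
    rw [hP, Nat.card_zpowers, orderOf_eq_prime hxp hx1]
  let x₁ : A := ⟨x, hPA hxP⟩
  let x₂ : A := ⟨a, ha⟩ * x₁ * (⟨a, ha⟩ : A)⁻¹
  have hgen : ∀ z : A, (z = x₁ ∨ z = x₂) → ∀ N : Subgroup A, N.Normal → z ∈ N → N = ⊤ := by
    intro z hz N hN hzN
    have h1 : x₁ ∈ N := by
      rcases hz with rfl | rfl
      · exact hzN
      · simpa [x₂, mul_assoc] using hN.conj_mem _ hzN (⟨a, ha⟩ : A)⁻¹
    have h2 : A ≤ N.map A.subtype := by
      conv_lhs => rw [hA]
      rw [hPz, MonoidHom.map_zpowers, sup_le_iff, Subgroup.zpowers_le, Subgroup.zpowers_le]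
      exact ⟨⟨x₁, h1, rfl⟩, ⟨x₂, hN.conj_mem _ h1 ⟨a, ha⟩, rfl⟩⟩
    refine eq_top_iff.mpr fun g _ => ?_
    obtain ⟨g', hg', h⟩ := h2 g.2
    rwa [← Subtype.ext h]
  have hne' : ∀ z : A, (z = x₁ ∨ z = x₂) → act z ≠ 1 := by
    intro z hz h
    have htop := hgen z hz act.ker inferInstance (MonoidHom.mem_ker.mpr h)
    obtain ⟨w, hw⟩ := exists_ne (1 : V0 ⧸ frattini V0)
    refine hw (hCX w fun s => ?_)
    rw [MonoidHom.mem_ker.mp (htop.ge (Subgroup.mem_top (s : A)))]
    rfl
  let C : A → Subgroup (V0 ⧸ frattini V0) := fun z =>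
    (act z).toMonoidHom.eqLocus (MonoidHom.id _)
  have hpow : ∀ z : A, (z = x₁ ∨ z = x₂) → z ^ p = 1 := by
    intro z hz
    rcases hz with rfl | rfl
    · exact Subtype.ext hxp
    · rw [conj_pow, show x₁ ^ p = 1 from Subtype.ext hxp, mul_one, mul_inv_cancel]
  have hlt : ∀ z : A, (z = x₁ ∨ z = x₂) → Nat.card (C z) ^ 2 < Nat.card (V0 ⧸ frattini V0) :=
    fun z hz => fixed_card_sq_lt hsol hp hWq act (hpow z hz) (hgen z hz) hirr (hne' z hz) fun w hw => hw
  obtain ⟨v', hv'⟩ := exists_notMem_sup (hlt x₁ (Or.inl rfl)) (hlt x₂ (Or.inr rfl))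
  obtain ⟨v, rfl⟩ := hπs v'
  -- the competitor
  set B : Subgroup G := P ⊔ P.map (MulAut.conj ((v : G) * a)).toMonoidHom with hB
  have hPB : P ≤ B := le_sup_left
  have hconjB : ∀ y ∈ P, (v : G) * (a * y * a⁻¹) * (v : G)⁻¹ ∈ B := fun y hy => by
    refine Subgroup.mem_sup_right ⟨y, hy, ?_⟩
    simp [mul_assoc]
  -- every element of `A` lifts to `B`
  let K : Subgroup A :=
    { carrier := {g | ∃ u : V0, (u : G) * (g : G) ∈ B}
      one_mem' := ⟨1, by simp⟩
      mul_mem' := by
        rintro g h ⟨u, hu⟩ ⟨u', hu'⟩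
        refine ⟨u * act' g u', ?_⟩
        rw [Subgroup.coe_mul, hact', Subgroup.coe_mul]
        have := mul_mem hu hu'
        simpa [mul_assoc] using this
      inv_mem' := by
        rintro g ⟨u, hu⟩
        refine ⟨act' g⁻¹ u⁻¹, ?_⟩
        rw [hact']
        have := inv_mem hu
        simpa [mul_assoc] using this }
  have hKtop : ∀ g : A, ∃ u : V0, (u : G) * (g : G) ∈ B := by
    have h2 : A ≤ K.map A.subtype := by
      conv_lhs => rw [hA]
      rw [hPz, MonoidHom.map_zpowers, sup_le_iff, Subgroup.zpowers_le, Subgroup.zpowers_le]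
      refine ⟨⟨x₁, ⟨1, ?_⟩, rfl⟩, ⟨x₂, ⟨v * (act' x₂ v)⁻¹, ?_⟩, rfl⟩⟩
      · rw [OneMemClass.coe_one, one_mul]
        exact hPB hxP
      · rw [Subgroup.coe_mul, Subgroup.coe_inv, hact']
        have := hconjB x hxP
        simpa [x₂, x₁, mul_assoc] using this
    intro g
    obtain ⟨g', hg', h⟩ := h2 g.2
    obtain rfl := Subtype.ext h
    exact hg'
  choose u hu using hKtop
  -- `B` meets `V0` inside the Frattini subgroup
  have hUbot : ∀ d : V0, (d : G) ∈ B → π d = 1 := by
    rcases hirr ((B.subgroupOf V0).map π) (by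
      rintro g _ ⟨d, hd, rfl⟩
      rw [hact]
      let b : G := (u g : G) * g
      have hbV : b * d * b⁻¹ ∈ V0 := by
        have h1 := (act' g d).2
        rw [hact'] at h1
        have := mul_mem (mul_mem (u g).2 h1) (inv_mem (u g).2)
        simpa [b, mul_assoc] using this
      refine ⟨⟨_, hbV⟩, mul_mem (mul_mem (hu g) hd) (inv_mem (hu g)), ?_⟩
      have : (⟨_, hbV⟩ : V0) = u g * act' g d * (u g)⁻¹ := Subtype.ext (by
        show b * d * b⁻¹ = (u g : G) * (g * d * (g : G)⁻¹) * (u g : G)⁻¹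
        simp [b, mul_assoc])
      rw [this, map_mul, map_mul, map_inv, mul_inv_cancel_comm]) with h | h
    · intro d hd
      exact Subgroup.mem_bot.mp (h.le ⟨d, hd, rfl⟩)
    · exfalso
      have hsup : B.subgroupOf V0 ⊔ frattini V0 = ⊤ := by
        have h2 := congrArg (Subgroup.comap π) h
        rwa [Subgroup.comap_map_eq, Subgroup.comap_top, QuotientGroup.ker_mk'] at h2
      have hVB : V0 ≤ B := Subgroup.subgroupOf_eq_top.mp (frattini_nongenerating hsup)
      have hAB : A ≤ B := by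
        intro g hg
        have := mul_mem (inv_mem (hVB (u ⟨g, hg⟩).2)) (hu ⟨g, hg⟩)
        rwa [inv_mul_cancel_left] at this
      have hBle : B ≤ V0 ⊔ A := by
        refine sup_le (hPA.trans le_sup_right) ?_
        rintro _ ⟨y, hy, rfl⟩
        show ((v : G) * a) * y * ((v : G) * a)⁻¹ ∈ _
        exact mul_mem (mul_mem (mul_mem (Subgroup.mem_sup_left v.2) (Subgroup.mem_sup_right ha))
          (Subgroup.mem_sup_right (hPA hy)))
          (inv_mem (mul_mem (Subgroup.mem_sup_left v.2) (Subgroup.mem_sup_right ha)))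
      have hBsol : Group.IsSolvable B :=
        haveI := isSolvable_sup hsol hsolV0 hAV0
        Group.isSolvable_of_isSolvable_injective (Subgroup.inclusion_injective hBle)
      have hBA := hmax B hAB hBsol ⟨(v : G) * a, mul_mem (hVB v.2) (hAB ha), rfl⟩
      exact hVA (hBA ▸ hVB)
  -- the cocycle
  let c : A → V0 ⧸ frattini V0 := fun g => π (u g)
  have hc : ∀ (g : A) (d : V0), (d : G) * g ∈ B → π d = c g := fun g d hd => by
    have h := hUbot (d * (u g)⁻¹) (by
      have := mul_mem hd (inv_mem (hu g))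
      simpa [mul_assoc] using this)
    rwa [map_mul, map_inv, mul_inv_eq_one] at h
  have hcmul : ∀ g h : A, c (g * h) = c g * act g (c h) := fun g h => by
    refine (hc (g * h) (u g * act' g (u h)) ?_).symm.trans ?_
    · rw [Subgroup.coe_mul, hact', Subgroup.coe_mul]
      have := mul_mem (hu g) (hu h)
      simpa [mul_assoc] using this
    · rw [map_mul, ← hact]
  -- it is principal on `X`
  obtain ⟨w₀, hw₀⟩ := (powCoprime hXscard).surjective (∏ s : Xs, c s)
  have hw₀' : w₀ ^ Nat.card Xs = ∏ s : Xs, c s := hw₀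
  have hw₀X : ∀ t : Xs, c t * act t w₀ = w₀ := by
    intro t
    refine (powCoprime hXscard).injective ?_
    show (c t * act t w₀) ^ Nat.card Xs = w₀ ^ Nat.card Xs
    calc (c t * act t w₀) ^ Nat.card Xs = c t ^ Nat.card Xs * act t (w₀ ^ Nat.card Xs) := by
          rw [mul_pow, map_pow]
      _ = c t ^ Nat.card Xs * act t (∏ s : Xs, c s) := by rw [hw₀']
      _ = c t ^ Nat.card Xs * ∏ s : Xs, act t (c s) := by rw [map_prod]
      _ = ∏ s : Xs, (c t * act t (c s)) := by
          rw [Finset.prod_mul_distrib, Finset.prod_const, Finset.card_univ, Nat.card_eq_fintype_card]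
      _ = ∏ s : Xs, c (t * s : Xs) := Finset.prod_congr rfl fun s _ => by rw [Subgroup.coe_mul, hcmul]
      _ = ∏ s : Xs, c s := Fintype.prod_equiv (Equiv.mulLeft t) _ _ fun s => rfl
      _ = w₀ ^ Nat.card Xs := hw₀'.symm
  let d : A → V0 ⧸ frattini V0 := fun g => c g * act g w₀ * w₀⁻¹
  have hdmul : ∀ g h : A, d (g * h) = d g * act g (d h) := fun g h => by
    show c (g * h) * act (g * h) w₀ * w₀⁻¹ = c g * act g w₀ * w₀⁻¹ * act g (c h * act h w₀ * w₀⁻¹)
    rw [hcmul, map_mul (act g), map_mul (act g), map_inv (act g), map_mul act, MulAut.mul_apply]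
    exact mul_shuffle _ _ _ _ _
  have hdX : ∀ t : Xs, d t = 1 := fun t => by
    show c t * act t w₀ * w₀⁻¹ = 1
    rw [hw₀X, mul_inv_cancel]
  have hd1 : ∀ g : A, c g * act g w₀ = w₀ := by
    intro g
    have h1 : d g = 1 := hCX _ fun s => by
      have hs' : g⁻¹ * (s : A) * g ∈ Xs := by
        have h := Subgroup.le_normalizer_iff.mp hAX ((g⁻¹ : A) : G) (g⁻¹).2 ((s : A) : G) s.2
        show ((g⁻¹ * (s : A) * g : A) : G) ∈ X
        simpa using h
      have h2 : d ((s : A) * g) = d g := by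
        rw [show (s : A) * g = g * (g⁻¹ * (s : A) * g) by group, hdmul, hdX ⟨_, hs'⟩, map_one, mul_one]
      rwa [hdmul, hdX, one_mul] at h2
    exact mul_inv_eq_one.mp h1
  -- contradiction
  have hcx : c x₁ = 1 := by
    rw [← hc x₁ 1 (by rw [OneMemClass.coe_one, one_mul]; exact hPB hxP), map_one]
  have hcx₂ : c x₂ = π v * (act x₂ (π v))⁻¹ := by
    rw [← hc x₂ (v * (act' x₂ v)⁻¹) (by
      rw [Subgroup.coe_mul, Subgroup.coe_inv, hact']
      simpa [x₂, x₁, mul_assoc] using hconjB x hxP), map_mul, map_inv, hact]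
  have hw1 : w₀ ∈ C x₁ := by
    have := hd1 x₁
    rw [hcx, one_mul] at this
    exact this
  have hw2 : w₀⁻¹ * π v ∈ C x₂ := by
    show act x₂ (w₀⁻¹ * π v) = w₀⁻¹ * π v
    have := hd1 x₂
    rw [hcx₂, mul_assoc, ← eq_inv_mul_iff_mul_eq, inv_mul_eq_iff_eq_mul] at this
    rw [map_mul, map_inv, this]
    simp [mul_comm, mul_left_comm]
  exact hv' (by rw [← mul_inv_cancel_left w₀ (π v)]; exact Subgroup.mul_mem_sup hw1 hw2)

end Cfsg.Agent.LocalFlavell.FittingTimes
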