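import Cfsg.Agent.LocalFlavell.HalfFixed.Main

/-!
The bound on fixed points, for an action on an elementary abelian group.
-/

set_option autoImplicit false
set_option linter.style.haveILetI false

namespace Cfsg.Agent.LocalFlavell.FittingTimes

universe u v

/-- An element of prime order `p > 3` generating a solvable group normally fixes fewer than
`|W| ^ (1/2)` points of an irreducible elementary abelian section. -/
theorem fixed_card_sq_lt {A : Type u} [Group A] [Finite A] (hsol : Group.IsSolvable A) {p q : ℕ}
    [Fact p.Prime] [Fact q.Prime] (hp : 3 < p) {W : Type v} [CommGroup W] [Finite W] [Nontrivial W]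
    (hW : ∀ w : W, w ^ q = 1) (act : A →* MulAut W) {x : A} (hx : x ^ p = 1)
    (gen : ∀ N : Subgroup A, N.Normal → x ∈ N → N = ⊤)
    (hirr : ∀ U : Subgroup W, (∀ a : A, ∀ u ∈ U, act a u ∈ U) → U = ⊥ ∨ U = ⊤) (hne : act x ≠ 1)
    {C : Subgroup W} (hC : ∀ w ∈ C, act x w = w) : Nat.card C ^ 2 < Nat.card W := by
  classical
  have hWadd : ∀ a : Additive W, q • a = 0 := fun a => congrArg Additive.ofMul (hW a.toMul)
  letI : Module (ZMod q) (Additive W) := AddCommGroup.zmodModule hWadd
  have _hmod : Module (ZMod q) (Additive W) := inferInstance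
  let T : act.range → Module.End (ZMod q) (Additive W) := fun h =>
    (MonoidHom.toAdditive (h : MulAut W).toMonoidHom).toZModLinearMap q
  have hT : ∀ (h : act.range) (a : Additive W), T h a = Additive.ofMul ((h : MulAut W) a.toMul) :=
    fun h a => rfl
  let σ : Representation (ZMod q) act.range (Additive W) :=
    { toFun := T
      map_one' := LinearMap.ext fun a => rfl
      map_mul' := fun g h => LinearMap.ext fun a => rfl }
  have hsolH : Group.IsSolvable act.range := Group.isSolvable_of_surjective act.rangeRestrict_surjective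
  have S : HalfFixed.Setup p (act.rangeRestrict x) σ :=
    { hp := hp
      xp := by rw [← map_pow, hx, map_one]
      gen := fun N hN hxN => by
        have h := gen _ (hN.comap act.rangeRestrict) hxN
        rw [← Subgroup.map_comap_eq_self_of_surjective act.rangeRestrict_surjective N, h,
          Subgroup.map_top_of_surjective _ act.rangeRestrict_surjective]
      faithful := fun g h e => Subtype.ext (MulEquiv.ext fun w =>
        congrArg Additive.toMul (LinearMap.congr_fun e (Additive.ofMul w)))
      irr := fun U hU => by
        rcases hirr (AddSubgroup.toSubgroup' U.toAddSubgroup)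
            (fun a u hu => hU ⟨act a, a, rfl⟩ (Additive.ofMul u) hu) with h | h
        · refine Or.inl (le_bot_iff.mp fun a ha => ?_)
          rw [Submodule.mem_bot]
          have h2 : a.toMul ∈ (⊥ : Subgroup W) := h ▸ ha
          have h3 : a.toMul = 1 := Subgroup.mem_bot.mp h2
          exact congrArg Additive.ofMul h3
        · refine Or.inr (top_le_iff.mp fun a _ => ?_)
          exact (h.ge (Subgroup.mem_top a.toMul) : a.toMul ∈ AddSubgroup.toSubgroup' U.toAddSubgroup)
      ne := fun h => hne (congrArg Subtype.val h) }
  have hhalf : 2 * Module.finrank (ZMod q) (HalfFixed.fixed σ (act.rangeRestrict x)) <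
      Module.finrank (ZMod q) (Additive W) := HalfFixed.half hsolH S
  have hcW : Nat.card W = q ^ Module.finrank (ZMod q) (Additive W) :=
    (Nat.card_congr Additive.ofMul).trans
      ((Module.natCard_eq_pow_finrank (K := ZMod q) (V := Additive W)).trans (by rw [Nat.card_zmod]))
  have hcC : Nat.card C ≤ q ^ Module.finrank (ZMod q) (HalfFixed.fixed σ (act.rangeRestrict x)) := by
    refine le_of_le_of_eq (Nat.card_le_card_of_injective
      (fun w : C => (⟨Additive.ofMul (w : W), HalfFixed.mem_fixed.mpr
        (congrArg Additive.ofMul (hC w w.2))⟩ : HalfFixed.fixed σ (act.rangeRestrict x)))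
      fun a b h => ?_) ?_
    · have h2 := congrArg Subtype.val h
      exact Subtype.ext (congrArg Additive.toMul h2)
    · exact (Module.natCard_eq_pow_finrank (K := ZMod q)
      (V := HalfFixed.fixed σ (act.rangeRestrict x))).trans (by rw [Nat.card_zmod])
  rw [hcW]
  refine lt_of_le_of_lt (Nat.pow_le_pow_left hcC 2) ?_
  rw [← pow_mul]
  exact Nat.pow_lt_pow_right (Fact.out (p := q.Prime)).one_lt (by omega)

/-- Two conjugates' fixed points do not generate. -/
theorem exists_notMem_sup {W : Type v} [CommGroup W] [Finite W] {C D : Subgroup W}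
    (hC : Nat.card C ^ 2 < Nat.card W) (hD : Nat.card D ^ 2 < Nat.card W) :
    ∃ w, w ∉ C ⊔ D := by
  by_contra h
  push Not at h
  have hs : Function.Surjective fun z : C × D => (z.1 : W) * z.2 := fun w => by
    obtain ⟨c, hc, d, hd, rfl⟩ := Subgroup.mem_sup.mp (h w)
    exact ⟨(⟨c, hc⟩, ⟨d, hd⟩), rfl⟩
  have h2 := Nat.card_le_card_of_surjective _ hs
  rw [Nat.card_prod] at h2
  rcases le_total (Nat.card C) (Nat.card D) with hle | hle
  · nlinarith [Nat.mul_le_mul_right (Nat.card D) hle]
  · nlinarith [Nat.mul_le_mul_left (Nat.card C) hle]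

end Cfsg.Agent.LocalFlavell.FittingTimes
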